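import Mathlib.RingTheory.Kaehler.Basic
import Mathlib.RingTheory.AdjoinRoot
import Mathlib.Algebra.CharP.Lemmas
import Mathlib.Algebra.CharP.Algebra
import Mathlib.Data.Nat.Choose.Dvd

/-! The trace on differentials of a `p`-th root extension. -/

set_option autoImplicit false

noncomputable section

universe u

open Polynomial

namespace Groth.Agent.PthRootTrace

variable {p : ℕ} [hp : Fact p.Prime] {R : Type u} [CommRing R] {a : R}


theorem monic : (X ^ p - C a : R[X]).Monic := monic_X_pow_sub_C a hp.1.ne_zero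

theorem root_pow : (AdjoinRoot.root (X ^ p - C a : R[X])) ^ p = algebraMap R (AdjoinRoot (X ^ p - C a : R[X])) a := by
  have h : AdjoinRoot.mk (X ^ p - C a : R[X]) (X ^ p - C a) = 0 := AdjoinRoot.mk_self
  rw [map_sub, map_pow, AdjoinRoot.mk_X, sub_eq_zero, AdjoinRoot.mk_C] at h
  exact h

/-- every element is a combination of the powers of the root below `p` -/
theorem induction (P : (AdjoinRoot (X ^ p - C a : R[X])) → Prop) (h0 : P 0) (hadd : ∀ s t, P s → P t → P (s + t))
    (hmon : ∀ (c : R) (i : ℕ), i < p → P (c • (AdjoinRoot.root (X ^ p - C a : R[X])) ^ i)) (s : (AdjoinRoot (X ^ p - C a : R[X]))) : P s := by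
  rcases subsingleton_or_nontrivial R with hR | hR
  · haveI : Subsingleton (AdjoinRoot (X ^ p - C a : R[X])) := Module.subsingleton R _
    rwa [Subsingleton.elim s 0]
  induction s using AdjoinRoot.induction_on with
  | ih q =>
    have e : AdjoinRoot.mk (X ^ p - C a : R[X]) q = AdjoinRoot.mk _ (q %ₘ (X ^ p - C a)) := by
      rw [AdjoinRoot.mk_eq_mk]
      exact ⟨q /ₘ (X ^ p - C a), by linear_combination -(modByMonic_add_div q (X ^ p - C a : R[X]))⟩
    have hd : (q %ₘ (X ^ p - C a : R[X])).natDegree < p := by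
      have := natDegree_modByMonic_lt q (monic (p := p) (a := a)) (fun h => by
        have := congrArg natDegree h
        rw [natDegree_X_pow_sub_C, natDegree_one] at this
        exact hp.1.ne_zero this)
      rwa [natDegree_X_pow_sub_C] at this
    rw [e, as_sum_range' (q %ₘ (X ^ p - C a)) p hd, map_sum]
    refine Finset.sum_induction _ P hadd h0 fun i hi => ?_
    rw [← C_mul_X_pow_eq_monomial, map_mul, map_pow, AdjoinRoot.mk_X, AdjoinRoot.mk_C]
    have := hmon ((q %ₘ (X ^ p - C a)).coeff i) i (Finset.mem_range.1 hi)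
    rwa [Algebra.smul_def] at this

variable {N : Type u} [AddCommGroup N] [Module R N] (T : Ω[(AdjoinRoot (X ^ p - C a : R[X]))⁄R] →ₗ[R] N)
  (hT : ∀ i : ℕ, i + 2 ≤ p → T ((AdjoinRoot.root (X ^ p - C a : R[X])) ^ i • (KaehlerDifferential.D R (AdjoinRoot (X ^ p - C a : R[X]))) (AdjoinRoot.root (X ^ p - C a : R[X]))) = 0)

include hT in
/-- the trace kills exact forms -/
theorem apply_D (s : (AdjoinRoot (X ^ p - C a : R[X]))) : T ((KaehlerDifferential.D R (AdjoinRoot (X ^ p - C a : R[X]))) s) = 0 := by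
  induction s using induction with
  | h0 => simp
  | hadd s t hs ht => rw [map_add, map_add, hs, ht, add_zero]
  | hmon c i hi =>
    rw [((KaehlerDifferential.D R (AdjoinRoot (X ^ p - C a : R[X])))).map_smul, Derivation.leibniz_pow, map_smul, map_nsmul]
    rcases Nat.eq_zero_or_pos i with rfl | hi0
    · simp
    · rw [hT _ (by omega), nsmul_zero, smul_zero]

include hT in
/-- `f ↦ Tr(f^{p-1} df)` is additive -/
theorem apply_pow_D_add (f g : (AdjoinRoot (X ^ p - C a : R[X]))) :
    T ((f + g) ^ (p - 1) • (KaehlerDifferential.D R (AdjoinRoot (X ^ p - C a : R[X]))) (f + g)) = T (f ^ (p - 1) • (KaehlerDifferential.D R (AdjoinRoot (X ^ p - C a : R[X]))) f) + T (g ^ (p - 1) • (KaehlerDifferential.D R (AdjoinRoot (X ^ p - C a : R[X]))) g) := by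
  obtain ⟨m, hm⟩ : ∃ m, p = m + 1 := ⟨p - 1, (Nat.succ_pred_eq_of_pos hp.1.pos).symm⟩
  rw [show p - 1 = m by omega]
  -- the potential
  let h : (AdjoinRoot (X ^ p - C a : R[X])) := ∑ i ∈ Finset.range m, (((m + 1).choose (i + 1) / (m + 1) : ℕ) : (AdjoinRoot (X ^ p - C a : R[X]))) * (f ^ (i + 1) * g ^ (m - i))
  have key : (f + g) ^ m • (KaehlerDifferential.D R (AdjoinRoot (X ^ p - C a : R[X]))) (f + g) = f ^ m • (KaehlerDifferential.D R (AdjoinRoot (X ^ p - C a : R[X]))) f + g ^ m • (KaehlerDifferential.D R (AdjoinRoot (X ^ p - C a : R[X]))) g + (KaehlerDifferential.D R (AdjoinRoot (X ^ p - C a : R[X]))) h := by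
    have hq : ∀ i < m, (i + 1) * ((m + 1).choose (i + 1) / (m + 1)) = m.choose i ∧
        (m - i) * ((m + 1).choose (i + 1) / (m + 1)) = m.choose (i + 1) := by
      intro i hi
      obtain ⟨c, hc⟩ : (m + 1) ∣ (m + 1).choose (i + 1) := hm ▸ hp.1.dvd_choose_self (k := i + 1) (by omega) (by omega)
      rw [hc, Nat.mul_div_cancel_left c (Nat.succ_pos m)]
      have h1 := Nat.add_one_mul_choose_eq m i
      have h2 := Nat.choose_succ_right_eq m i
      rw [hc] at h1
      have h3 : (i + 1) * c = m.choose i := Nat.eq_of_mul_eq_mul_left (Nat.succ_pos m) (by linarith [h1])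
      refine ⟨h3, ?_⟩
      refine Nat.eq_of_mul_eq_mul_right (Nat.succ_pos i) ?_
      rw [h2, ← h3, Nat.succ_eq_add_one]; ring
    have hh : (KaehlerDifferential.D R (AdjoinRoot (X ^ p - C a : R[X]))) h = ∑ i ∈ Finset.range m, ((((m.choose i : ℕ) : (AdjoinRoot (X ^ p - C a : R[X]))) * (f ^ i * g ^ (m - i))) • (KaehlerDifferential.D R (AdjoinRoot (X ^ p - C a : R[X]))) f +
        (((m.choose (i + 1) : ℕ) : (AdjoinRoot (X ^ p - C a : R[X]))) * (f ^ (i + 1) * g ^ (m - (i + 1)))) • (KaehlerDifferential.D R (AdjoinRoot (X ^ p - C a : R[X]))) g) := by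
      rw [map_sum]
      refine Finset.sum_congr rfl fun i hi => ?_
      obtain ⟨h1, h2⟩ := hq i (Finset.mem_range.1 hi)
      rw [Derivation.leibniz, Derivation.map_natCast, smul_zero, add_zero, Derivation.leibniz,
        Derivation.leibniz_pow, Derivation.leibniz_pow, ← h1, ← h2, show m - (i + 1) = m - i - 1 by omega]
      simp only [Nat.add_sub_cancel, ← Nat.cast_smul_eq_nsmul (AdjoinRoot (X ^ p - C a : R[X])), smul_smul, smul_add, Nat.cast_mul]
      rw [add_comm]
      congr 2 <;> ring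
    rw [hh, Finset.sum_add_distrib, ← Finset.sum_smul, ← Finset.sum_smul, add_pow]
    have e1 : ∑ i ∈ Finset.range m, ((m.choose i : ℕ) : (AdjoinRoot (X ^ p - C a : R[X]))) * (f ^ i * g ^ (m - i)) + f ^ m =
        ∑ i ∈ Finset.range (m + 1), f ^ i * g ^ (m - i) * ((m.choose i : ℕ) : (AdjoinRoot (X ^ p - C a : R[X]))) := by
      rw [Finset.sum_range_succ _ m, Nat.choose_self, Nat.sub_self]
      simp only [pow_zero, mul_one, Nat.cast_one]
      congr 1
      exact Finset.sum_congr rfl fun i _ => by ring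
    have e2 : ∑ i ∈ Finset.range m, ((m.choose (i + 1) : ℕ) : (AdjoinRoot (X ^ p - C a : R[X]))) * (f ^ (i + 1) * g ^ (m - (i + 1))) + g ^ m =
        ∑ i ∈ Finset.range (m + 1), f ^ i * g ^ (m - i) * ((m.choose i : ℕ) : (AdjoinRoot (X ^ p - C a : R[X]))) := by
      rw [Finset.sum_range_succ' _ m, Nat.choose_zero_right, Nat.sub_zero]
      simp only [pow_zero, one_mul, mul_one, Nat.cast_one]
      congr 1
      exact Finset.sum_congr rfl fun i _ => by ring
    rw [map_add, smul_add]
    conv_lhs => arg 1; rw [← e1, add_smul]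
    conv_lhs => arg 2; rw [← e2, add_smul]
    abel
  rw [key, map_add, map_add, apply_D T hT, add_zero]

variable [CharP R p] {T₀ : Ω[(AdjoinRoot (X ^ p - C a : R[X]))⁄R] →ₗ[R] Ω[R⁄ℤ]}
  (hT₀ : ∀ i : ℕ, i + 2 ≤ p → T₀ ((AdjoinRoot.root (X ^ p - C a : R[X])) ^ i • (KaehlerDifferential.D R (AdjoinRoot (X ^ p - C a : R[X]))) (AdjoinRoot.root (X ^ p - C a : R[X]))) = 0)
  (hT₁ : T₀ ((AdjoinRoot.root (X ^ p - C a : R[X])) ^ (p - 1) • (KaehlerDifferential.D R (AdjoinRoot (X ^ p - C a : R[X]))) (AdjoinRoot.root (X ^ p - C a : R[X]))) = KaehlerDifferential.D ℤ R a)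

omit [CharP R p] in
include hp in
theorem algebraMap_injective : Function.Injective (algebraMap R (AdjoinRoot (X ^ p - C a : R[X]))) := by
  nontriviality R
  intro r r' h
  rw [← sub_eq_zero, ← map_sub, AdjoinRoot.algebraMap_eq, ← AdjoinRoot.mk_C,
    AdjoinRoot.mk_eq_zero] at h
  by_contra hne
  have := (monic (p := p) (a := a)).not_dvd_of_natDegree_lt (p := X ^ p - C a) (q := C (r - r'))
    (C_ne_zero.2 (sub_ne_zero.2 hne)) (by rw [natDegree_C, natDegree_X_pow_sub_C]; exact hp.1.pos)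
  exact this h

include hT₀ hT₁ in
theorem apply_pow_D_self (f : (AdjoinRoot (X ^ p - C a : R[X]))) :
    ∃ r : R, f ^ p = algebraMap R (AdjoinRoot (X ^ p - C a : R[X])) r ∧ T₀ (f ^ (p - 1) • (KaehlerDifferential.D R (AdjoinRoot (X ^ p - C a : R[X]))) f) = KaehlerDifferential.D ℤ R r := by
  induction f using induction with
  | h0 => exact ⟨0, by rw [zero_pow hp.1.ne_zero, map_zero], by simp⟩
  | hadd s t hs ht =>
    obtain ⟨r, hr, hr'⟩ := hs
    obtain ⟨r', hq, hq'⟩ := ht
    haveI : CharP (AdjoinRoot (X ^ p - C a : R[X])) p := charP_of_injective_ringHom (algebraMap_injective (p := p) (R := R) (a := a)) p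
    exact ⟨r + r', by rw [add_pow_char, hr, hq, map_add], by rw [apply_pow_D_add T₀ hT₀, hr', hq', map_add]⟩
  | hmon c i hi =>
    refine ⟨c ^ p * a ^ i, ?_, ?_⟩
    · rw [smul_pow, ← pow_mul, mul_comm i, pow_mul, root_pow, ← map_pow, Algebra.smul_def, ← map_mul]
    · have h0 : KaehlerDifferential.D ℤ R (c ^ p) = 0 := by
        rw [Derivation.leibniz_pow, ← Nat.cast_smul_eq_nsmul R, CharP.cast_eq_zero, zero_smul]
      rw [Derivation.leibniz, h0, smul_zero, add_zero, Derivation.leibniz_pow]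
      rcases i with _ | j
      · simp
      · have e : ((AdjoinRoot.root (X ^ p - C a : R[X])) ^ (j + 1)) ^ (p - 1) * (AdjoinRoot.root (X ^ p - C a : R[X])) ^ j = algebraMap R _ (a ^ j) * (AdjoinRoot.root (X ^ p - C a : R[X])) ^ (p - 1) := by
          rw [map_pow, ← root_pow, ← pow_mul, ← pow_add, ← pow_mul, ← pow_add]
          congr 1
          obtain ⟨m, hm⟩ : ∃ m, p = m + 1 := ⟨p - 1, (Nat.succ_pred_eq_of_pos hp.1.pos).symm⟩
          rw [show p - 1 = m by omega, hm]
          ring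
        have e' : (c • (AdjoinRoot.root (X ^ p - C a : R[X])) ^ (j + 1)) ^ (p - 1) • (KaehlerDifferential.D R (AdjoinRoot (X ^ p - C a : R[X]))) (c • (AdjoinRoot.root (X ^ p - C a : R[X])) ^ (j + 1)) =
            (c ^ p * a ^ j) • ((j + 1) • ((AdjoinRoot.root (X ^ p - C a : R[X])) ^ (p - 1) • (KaehlerDifferential.D R (AdjoinRoot (X ^ p - C a : R[X]))) (AdjoinRoot.root (X ^ p - C a : R[X])))) := by
          have hc : c ^ p = c ^ (p - 1) * c := by rw [← pow_succ, Nat.sub_add_cancel hp.1.one_le]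
          rw [Derivation.map_smul, Derivation.leibniz_pow, Nat.add_sub_cancel]
          simp only [← Nat.cast_smul_eq_nsmul (AdjoinRoot (X ^ p - C a : R[X])),
            ← algebraMap_smul (AdjoinRoot (X ^ p - C a : R[X])) c, ← algebraMap_smul (AdjoinRoot (X ^ p - C a : R[X])) (c ^ p * a ^ j),
            smul_smul, smul_eq_mul, mul_pow]
          congr 1
          rw [map_mul, map_pow, map_pow, show algebraMap R (AdjoinRoot (X ^ p - C a : R[X])) c ^ p =
            algebraMap R _ c ^ (p - 1) * algebraMap R _ c by rw [← pow_succ, Nat.sub_add_cancel hp.1.one_le]]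
          rw [map_pow] at e
          linear_combination (algebraMap R (AdjoinRoot (X ^ p - C a : R[X])) c ^ (p - 1) * algebraMap R _ c * ((j + 1 : ℕ) : AdjoinRoot (X ^ p - C a : R[X]))) * e
        rw [e', map_smul, map_nsmul, hT₁, Nat.add_sub_cancel, mul_smul, smul_comm (a ^ j)]

theorem D_eq (s : (AdjoinRoot (X ^ p - C a : R[X]))) : ∃ v : R[X], s = aeval (AdjoinRoot.root (X ^ p - C a : R[X])) v ∧ (KaehlerDifferential.D R (AdjoinRoot (X ^ p - C a : R[X]))) s = aeval (AdjoinRoot.root (X ^ p - C a : R[X])) (derivative v) • (KaehlerDifferential.D R (AdjoinRoot (X ^ p - C a : R[X]))) (AdjoinRoot.root (X ^ p - C a : R[X])) := by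
  induction s using AdjoinRoot.induction_on with
  | ih q => exact ⟨q, (AdjoinRoot.aeval_eq q).symm, by rw [← AdjoinRoot.aeval_eq, Derivation.map_aeval]⟩

include hT₀ hT₁ in
theorem compare {b : R} (φ : AdjoinRoot (X ^ p - C b : R[X]) →ₐ[R] (AdjoinRoot (X ^ p - C a : R[X])))
    (Tb : Ω[AdjoinRoot (X ^ p - C b : R[X])⁄R] →ₗ[R] Ω[R⁄ℤ])
    (hb : ∀ i : ℕ, i + 2 ≤ p → Tb (AdjoinRoot.root (X ^ p - C b) ^ i •
      KaehlerDifferential.D R _ (AdjoinRoot.root (X ^ p - C b))) = 0)
    (hb' : Tb (AdjoinRoot.root (X ^ p - C b) ^ (p - 1) •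
      KaehlerDifferential.D R _ (AdjoinRoot.root (X ^ p - C b))) = KaehlerDifferential.D ℤ R b)
    (s t : AdjoinRoot (X ^ p - C b : R[X])) :
    Tb (s • KaehlerDifferential.D R _ t) = T₀ (φ s • (KaehlerDifferential.D R (AdjoinRoot (X ^ p - C a : R[X]))) (φ t)) := by
  obtain ⟨v, rfl, hv⟩ := D_eq t
  rw [hv, ← aeval_algHom_apply, Derivation.map_aeval, smul_smul, smul_smul, aeval_algHom_apply, ← map_mul]
  generalize s * aeval _ (derivative v) = u
  induction u using induction with
  | h0 => simp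
  | hadd s t hs ht => rw [add_smul, map_add, hs, ht, map_add φ, add_smul, map_add]
  | hmon c i hi =>
    rw [map_smul φ, map_pow, smul_assoc, smul_assoc, LinearMap.map_smul, LinearMap.map_smul]
    congr 1
    rcases Nat.lt_or_ge (i + 1) p with h | h
    · rw [hb i h]
      have hd := apply_D T₀ hT₀ ((φ (AdjoinRoot.root _)) ^ (i + 1))
      rw [Derivation.leibniz_pow, Nat.add_sub_cancel, map_nsmul] at hd
      have hu : IsUnit ((i + 1 : ℕ) : R) := by
        have := (ZMod.unitOfCoprime (n := p) (i + 1) ((hp.1.coprime_iff_not_dvd.2 (fun hdvd =>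
          absurd (Nat.le_of_dvd (Nat.succ_pos i) hdvd) (by omega))).symm)).isUnit
        simpa using this.map (ZMod.castHom (dvd_refl p) R)
      rw [← Nat.cast_smul_eq_nsmul R, hu.smul_eq_zero] at hd
      exact hd.symm
    · obtain rfl : i = p - 1 := by omega
      rw [hb']
      obtain ⟨r, hr, hr'⟩ := apply_pow_D_self hT₀ hT₁ (φ (AdjoinRoot.root (X ^ p - C b)))
      rw [hr', ← map_pow, root_pow, AlgHom.commutes] at *
      rw [algebraMap_injective (p := p) hr]

end Groth.Agent.PthRootTrace
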